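import Groth.Agent.H4Goren.DivisibleShift
import Groth.Agent.H05EGA4.GlobalDim
import Groth.Agent.H05EGA4.Regular
import Groth.Agent.H8Props.FlatDepth
import Groth.Agent.H4Depth.LocDepth
import Groth.Prelude.Def_CAlg
import Mathlib.RingTheory.Localization.Away.Basic

/-!
# Gorenstein local rings: the residue field criterion, Rees' lemma, Cohen–Macaulayness
-/

set_option autoImplicit false
set_option linter.unusedSectionVars false

universe u

open CategoryTheory CategoryTheory.Abelian IsLocalRing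
open scoped Pointwise

namespace Groth.Agent.H4Goren

variable (A : Type u) [CommRing A] [IsLocalRing A]

/-- `Ext^i(κ, M) = 0` for `i > n`. -/
def EVA (M : Type u) [AddCommGroup M] [Module A M] (n : ℕ) : Prop :=
  ∀ i, n < i → Subsingleton (Ext (ModuleCat.of A (ResidueField A)) (ModuleCat.of A M) i)

variable [IsNoetherianRing A]

theorem hasInjectiveDimensionLT_of_eva (M : Type u) [AddCommGroup M] [Module A M] [Module.Finite A M]
    {n : ℕ} (h : EVA A M n) : HasInjectiveDimensionLT (ModuleCat.of A M) (n + 1) := by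
  refine H05EGA4.hasInjectiveDimensionLT_of_ext_quotient n _ fun I => ?_
  exact H05EGA4.extVanishAbove_of_residueField (N := ModuleCat.of A M) (n := n) h ⊥ (A ⧸ I) bot_le
    (n + 1) n.lt_succ_self

theorem exists_hasInjectiveDimensionLT_iff (M : Type u) [AddCommGroup M] [Module A M]
    [Module.Finite A M] :
    (∃ n : ℕ, HasInjectiveDimensionLT (ModuleCat.of A M) n) ↔
      ∃ N : ℕ, ∀ i : ℕ, N ≤ i →
        Subsingleton (Ext (ModuleCat.of A (ResidueField A)) (ModuleCat.of A M) i) := by
  constructor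
  · rintro ⟨n, hn⟩
    exact ⟨n, fun i hi => subsingleton_of_forall_eq 0 fun x =>
      x.eq_zero_of_hasInjectiveDimensionLT n hi⟩
  · rintro ⟨N, hN⟩
    exact ⟨N + 1, hasInjectiveDimensionLT_of_eva A M fun i hi => hN i hi.le⟩

theorem isGorensteinLocalRing_iff_ext :
    LocCoh.IsGorensteinLocalRing A ↔ ∃ N : ℕ, ∀ i : ℕ, N ≤ i →
      Subsingleton (Ext (ModuleCat.of A (ResidueField A)) (ModuleCat.of A A) i) :=
  ⟨fun h => (exists_hasInjectiveDimensionLT_iff A A).1 h.exists_hasInjectiveDimensionLT,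
    fun h => { exists_hasInjectiveDimensionLT := (exists_hasInjectiveDimensionLT_iff A A).2 h }⟩

theorem isGorensteinLocalRing_of_isRegularLocalRing (A : Type u) [CommRing A]
    [IsRegularLocalRing A] : LocCoh.IsGorensteinLocalRing A := by
  obtain ⟨d, -, hk⟩ := H05EGA4.exists_pd_residueField A
  exact (isGorensteinLocalRing_iff_ext A).2 ⟨d + 1, fun i hi => subsingleton_of_forall_eq 0 fun x =>
    x.eq_zero_of_hasProjectiveDimensionLT (d + 1) hi⟩

section Rees

variable {A} {f : A} (hfm : f ∈ maximalIdeal A) (hreg : IsSMulRegular A f)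

include hfm in
theorem span_ne_top : Ideal.span {f} ≠ ⊤ :=
  ne_top_of_le_ne_top (maximalIdeal.isMaximal A).ne_top
    ((Ideal.span_singleton_le_iff_mem _).2 hfm)

include hfm in
theorem isLocalRing_quotient : IsLocalRing (A ⧸ Ideal.span {f}) :=
  have := Ideal.Quotient.nontrivial_iff.2 (span_ne_top hfm)
  IsLocalRing.of_surjective' (Ideal.Quotient.mk _) Ideal.Quotient.mk_surjective

include hfm hreg in
/-- Rees' lemma, vanishing form. -/
theorem eva_quotient_iff [IsLocalRing (A ⧸ Ideal.span {f})] (i : ℕ) :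
    Subsingleton (Ext (ModuleCat.of A (ResidueField A)) (ModuleCat.of A A) (i + 2)) ↔
      Subsingleton (Ext (ModuleCat.of (A ⧸ Ideal.span {f}) (ResidueField (A ⧸ Ideal.span {f})))
        (ModuleCat.of (A ⧸ Ideal.span {f}) (A ⧸ Ideal.span {f})) (i + 1)) := by
  let B := A ⧸ Ideal.span {f}
  let X := ResidueField B
  let π : A →ₗ[A] X := Algebra.linearMap A X
  have hπ : Function.Surjective π := fun x => by
    obtain ⟨b, rfl⟩ := IsLocalRing.residue_surjective x
    obtain ⟨a, rfl⟩ := Ideal.Quotient.mk_surjective b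
    exact ⟨a, rfl⟩
  have hker : LinearMap.ker π = maximalIdeal A := by
    refine ((maximalIdeal.isMaximal A).eq_of_le (fun h => ?_) fun a ha => ?_).symm
    · have h1 : (1 : A) ∈ LinearMap.ker π := h ▸ Submodule.mem_top
      exact one_ne_zero (α := X) ((map_one (algebraMap A X)).symm.trans h1)
    · change algebraMap A X a = 0
      rw [IsScalarTower.algebraMap_apply A B X, Ideal.Quotient.algebraMap_eq]
      refine (IsLocalRing.residue_eq_zero_iff _).2 ?_
      rw [← IsLocalRing.map_maximalIdeal_of_surjective (Ideal.Quotient.mk (Ideal.span {f}))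
        Ideal.Quotient.mk_surjective]
      exact Ideal.mem_map_of_mem _ ha
  let eκ : ResidueField A ≃ₗ[A] X :=
    (Submodule.quotEquivOfEq _ _ hker.symm).trans (π.quotKerEquivOfSurjective hπ)
  -- replace the residue field by `X`
  have hX : Subsingleton (Ext (ModuleCat.of A (ResidueField A)) (ModuleCat.of A A) (i + 2)) ↔
      Subsingleton (Ext (ModuleCat.of A X) (ModuleCat.of A A) (i + 2)) := by
    constructor <;> intro h <;> refine subsingleton_of_forall_eq 0 fun x => ?_
    · rw [← x.mk₀_id_comp, ← eκ.toModuleIso.inv_hom_id, ← Ext.mk₀_comp_mk₀,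
        Ext.comp_assoc_of_second_deg_zero,
        Subsingleton.elim ((Ext.mk₀ eκ.toModuleIso.hom).comp x (zero_add _)) 0, Ext.comp_zero]
    · rw [← x.mk₀_id_comp, ← eκ.toModuleIso.hom_inv_id, ← Ext.mk₀_comp_mk₀,
        Ext.comp_assoc_of_second_deg_zero,
        Subsingleton.elim ((Ext.mk₀ eκ.toModuleIso.inv).comp x (zero_add _)) 0, Ext.comp_zero]
  -- `Z = A_f / A`
  let L := Localization.Away f
  let ι : A →ₗ[A] L := Algebra.linearMap A L
  have hι : Function.Injective ι := by
    refine IsLocalization.injective L (M := Submonoid.powers f) ?_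
    refine Submonoid.powers_le.2 (mem_nonZeroDivisors_iff_right.2 fun a ha => hreg ?_)
    simpa [mul_comm] using ha
  have hu : Function.Bijective (f • LinearMap.id : L →ₗ[A] L) := by
    have h := IsLocalization.Away.algebraMap_isUnit (S := L) f
    refine ⟨fun a b hab => ?_, fun b => ⟨h.unit⁻¹.1 * b, ?_⟩⟩
    · change f • a = f • b at hab
      rw [Algebra.smul_def, Algebra.smul_def] at hab
      exact h.mul_left_cancel hab
    · change f • ((h.unit⁻¹.1 : L) * b) = b
      rw [Algebra.smul_def, ← mul_assoc, IsUnit.mul_val_inv, one_mul]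
  let q := (LinearMap.range ι).mkQ
  have hex : Function.Exact ι q := LinearMap.exact_map_mkQ_range ι
  have hL : ∀ k, Subsingleton (Ext (ModuleCat.of A X) (ModuleCat.of A L) k) := fun k => by
    refine subsingleton_of_forall_eq 0 fun x => ?_
    let e : L ≃ₗ[A] L := LinearEquiv.ofBijective _ hu
    have h0 : x.comp (Ext.mk₀ (ModuleCat.ofHom (f • LinearMap.id : L →ₗ[A] L))) (add_zero k) = 0 := by
      rw [show ModuleCat.ofHom (f • LinearMap.id : L →ₗ[A] L) = f • 𝟙 (ModuleCat.of A L) from rfl,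
        ← Ext.smul_eq_comp_mk₀]
      exact H4Depth.ext_smul_eq_zero_of_mem_annihilator_left
        (Module.mem_annihilator.2 (smul_eq_zero_of_tower f X)) x
    rw [← x.comp_mk₀_id, show 𝟙 (ModuleCat.of A L) =
      ModuleCat.ofHom (f • LinearMap.id : L →ₗ[A] L) ≫ ModuleCat.ofHom e.symm.toLinearMap from
        ModuleCat.hom_ext (LinearMap.ext fun y => (e.symm_apply_apply y).symm),
      ← Ext.mk₀_comp_mk₀, ← Ext.comp_assoc_of_third_deg_zero, h0, Ext.zero_comp]
  have hshift : Subsingleton (Ext (ModuleCat.of A X) (ModuleCat.of A A) (i + 2)) ↔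
      Subsingleton (Ext (ModuleCat.of A X) (ModuleCat.of A (L ⧸ LinearMap.range ι)) (i + 1)) :=
    ⟨fun h => H4Depth.subsingleton_ext_right _ hι (Submodule.mkQ_surjective _) hex _ (hL _) h,
      fun h => H4Depth.subsingleton_ext_left _ hι (Submodule.mkQ_surjective _) hex _ (hL _) h⟩
  have hdiv : Function.Surjective (fun z : L ⧸ LinearMap.range ι => f • z) := fun z => by
    obtain ⟨y, rfl⟩ := Submodule.mkQ_surjective _ z
    obtain ⟨w, rfl⟩ := hu.2 y
    exact ⟨q w, (map_smul q f w).symm⟩
  -- `Z[f] ≅ A/(f)`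
  let u : L := IsLocalization.mk' L 1 (⟨f, Submonoid.mem_powers f⟩ : Submonoid.powers f)
  have hfu : f • u = ι 1 := by
    rw [Algebra.smul_def]
    exact IsLocalization.mk'_spec'_mk L 1 f _
  have hqu : f • q u = 0 := by
    rw [← map_smul, hfu]
    exact (Submodule.Quotient.mk_eq_zero _).2 ⟨1, rfl⟩
  let φ : B →ₗ[B] ker' f (L ⧸ LinearMap.range ι) :=
    LinearMap.toSpanSingleton B _ ⟨q u, (mem_ker'_iff f).2 hqu⟩
  have hφ : ∀ a : A, (φ (Ideal.Quotient.mk _ a) : L ⧸ LinearMap.range ι) = q (a • u) := fun a =>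
    (map_smul q a u).symm
  have hmem : ∀ y : L, q y = 0 ↔ ∃ c, ι c = y := fun y => Submodule.Quotient.mk_eq_zero _
  have hφbij : Function.Bijective φ := by
    constructor
    · rw [injective_iff_map_eq_zero]
      intro b hb
      obtain ⟨a, rfl⟩ := Ideal.Quotient.mk_surjective b
      have h1 := congrArg Subtype.val hb
      rw [hφ] at h1
      obtain ⟨c, hc⟩ := (hmem _).1 h1
      rw [Ideal.Quotient.eq_zero_iff_mem, Ideal.mem_span_singleton']
      refine ⟨c, hι ?_⟩
      rw [mul_comm, ← smul_eq_mul, map_smul, hc, smul_comm, hfu, ← map_smul, smul_eq_mul, mul_one]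
    · rintro ⟨z, hz⟩
      obtain ⟨y, rfl⟩ := Submodule.mkQ_surjective _ z
      rw [mem_ker'_iff, ← map_smul] at hz
      obtain ⟨a, ha⟩ := (hmem _).1 hz
      refine ⟨Ideal.Quotient.mk _ a, Subtype.ext ?_⟩
      rw [hφ]
      refine congrArg q (hu.1 ?_)
      simp only [LinearMap.smul_apply, LinearMap.id_coe, id_eq]
      rw [smul_comm, hfu, ← map_smul, smul_eq_mul, mul_one, ha]
  rw [hX, hshift, subsingleton_ext_ker_iff f X hreg i _ hdiv]
  let e := (LinearEquiv.ofBijective φ hφbij).toModuleIso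
  constructor <;> intro h <;> refine subsingleton_of_forall_eq 0 fun x => ?_
  · rw [← x.comp_mk₀_id, ← e.hom_inv_id, ← Ext.mk₀_comp_mk₀, ← Ext.comp_assoc_of_third_deg_zero,
      Subsingleton.elim (x.comp (Ext.mk₀ e.hom) (add_zero _)) 0, Ext.zero_comp]
  · rw [← x.comp_mk₀_id, ← e.inv_hom_id, ← Ext.mk₀_comp_mk₀, ← Ext.comp_assoc_of_third_deg_zero,
      Subsingleton.elim (x.comp (Ext.mk₀ e.inv) (add_zero _)) 0, Ext.zero_comp]

include hfm hreg in
theorem isGorensteinLocalRing_quotient_iff :
    LocCoh.IsGorensteinLocalRing A ↔ LocCoh.IsGorensteinLocalRing (A ⧸ Ideal.span {f}) := by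
  have := isLocalRing_quotient hfm
  rw [isGorensteinLocalRing_iff_ext, isGorensteinLocalRing_iff_ext]
  constructor
  · rintro ⟨N, hN⟩
    refine ⟨N + 1, fun i hi => ?_⟩
    obtain ⟨j, rfl⟩ := Nat.exists_eq_add_one_of_ne_zero (show i ≠ 0 by omega)
    exact (eva_quotient_iff hfm hreg j).1 (hN _ (by omega))
  · rintro ⟨N, hN⟩
    refine ⟨N + 2, fun i hi => ?_⟩
    obtain ⟨j, rfl⟩ : ∃ j, i = j + 2 := ⟨i - 2, by omega⟩
    exact (eva_quotient_iff hfm hreg j).2 (hN _ (by omega))

end Rees

section CM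

variable {A}

theorem injective_self_of_depth_eq_zero (hd : LocCoh.depth A A = 0) {n : ℕ} (h : EVA A A n) :
    Module.Injective A A := by
  induction n with
  | zero =>
    have := hasInjectiveDimensionLT_of_eva A A h
    have := injective_iff_hasInjectiveDimensionLT_one.2 this
    exact Module.injective_module_of_injective_object A A
  | succ n ih =>
    refine ih fun i hi => ?_
    rcases (show n + 1 ≤ i by omega).lt_or_eq with hlt | rfl
    · exact h i hlt
    obtain ⟨p, hp, hle⟩ := (H4Depth.idealDepth_eq_zero_iff_exists_associatedPrime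
      (H4Depth.maximalIdeal_smul_top_ne_top (R := A) (M := A))).1 hd
    obtain rfl : p = maximalIdeal A := le_antisymm (le_maximalIdeal hp.isPrime.ne_top) hle
    obtain ⟨-, v, hv⟩ := isAssociatedPrime_iff.mp hp
    have hv' : ∀ a, a ∈ maximalIdeal A ↔ a • v = 0 := fun a => by
      rw [hv, Submodule.mem_colon_singleton, Submodule.mem_bot]
    let g : ResidueField A →ₗ[A] A := Submodule.liftQ (maximalIdeal A)
      (LinearMap.toSpanSingleton A A v) fun a ha => by simpa using (hv' a).1 ha
    have hg : Function.Injective g := LinearMap.ker_eq_bot.1 (Submodule.ker_liftQ_eq_bot _ _ _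
      fun a ha => (hv' a).2 (by simpa using ha))
    have hC : Subsingleton (Ext (ModuleCat.of A (A ⧸ LinearMap.range g)) (ModuleCat.of A A) (n + 2)) :=
      subsingleton_of_forall_eq 0 fun x =>
        have := hasInjectiveDimensionLT_of_eva A A h
        x.eq_zero_of_hasInjectiveDimensionLT (n + 2) le_rfl
    refine subsingleton_of_forall_eq 0 fun x => ?_
    obtain ⟨y, rfl⟩ := Ext.contravariant_sequence_exact₁
      (H4Depth.shortComplexOf_shortExact g (LinearMap.range g).mkQ hg (Submodule.mkQ_surjective _)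
        (LinearMap.exact_map_mkQ_range g)) _ x (n₁ := n + 2) (by omega) (@Subsingleton.elim _ hC _ _)
    have hy : y = 0 := Ext.eq_zero_of_projective (P := ModuleCat.of A A) y
    subst hy
    simp
    rfl

theorem ringKrullDim_le_zero_of_injective_self (hA : Module.Injective A A) : ringKrullDim A ≤ 0 := by
  have : Ring.KrullDimLE 0 A := Ring.krullDimLE_zero_iff.2 fun p hp => ?_
  · exact Ring.krullDimLE_iff.1 this
  by_contra hpm
  have hlt : ¬ maximalIdeal A ≤ p := fun h =>
    hpm (le_antisymm (le_maximalIdeal hp.ne_top) h ▸ maximalIdeal.isMaximal A)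
  obtain ⟨x, hxm, hxp⟩ := SetLike.not_le_iff_exists.1 hlt
  obtain ⟨k, hk⟩ := monotone_stabilizes_iff_noetherian.2 ‹IsNoetherianRing A›
    ⟨fun k => LinearMap.ker (LinearMap.toSpanSingleton A A (x ^ k)), monotone_nat_of_le_succ
      fun k a ha => by
        simp only [LinearMap.mem_ker, LinearMap.toSpanSingleton_apply, smul_eq_mul] at ha ⊢
        rw [pow_succ, ← mul_assoc, ha, zero_mul]⟩
  have hstab : ∀ a, a * x ^ (k + 1) = 0 → a * x ^ k = 0 := fun a ha => by
    have := hk (k + 1) k.le_succ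
    simp only [OrderHom.coe_mk] at this
    have h2 : a ∈ LinearMap.ker (LinearMap.toSpanSingleton A A (x ^ k)) := by
      rw [this]; simpa using ha
    simpa using h2
  let μ : A →ₗ[A] A := LinearMap.toSpanSingleton A A (x ^ (k + 1))
  let φ : LinearMap.range μ →ₗ[A] A := (LinearMap.ker μ).liftQ (LinearMap.toSpanSingleton A A (x ^ k))
    (fun a ha => by simpa using hstab a (by simpa [μ] using ha)) ∘ₗ μ.quotKerEquivRange.symm.toLinearMap
  obtain ⟨c, hc⟩ := Module.Injective.extension_property (inj := hA) A A _ A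
    (LinearMap.range μ).subtype Subtype.val_injective φ
  have h1 := LinearMap.congr_fun hc ⟨μ 1, 1, rfl⟩
  have h2 : φ ⟨μ 1, 1, rfl⟩ = x ^ k := by
    simp only [φ, LinearMap.comp_apply, LinearEquiv.coe_coe]
    rw [show μ.quotKerEquivRange.symm ⟨μ 1, 1, rfl⟩ = Submodule.Quotient.mk 1 from
      μ.quotKerEquivRange.symm_apply_eq.2 (Subtype.ext rfl)]
    exact one_smul A (x ^ k)
  rw [h2, LinearMap.comp_apply, Submodule.subtype_apply] at h1
  simp only [μ, LinearMap.toSpanSingleton_apply, one_smul] at h1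
  have h3 : c (x ^ (k + 1)) = x ^ (k + 1) * c 1 := by
    rw [← smul_eq_mul, ← map_smul, smul_eq_mul, mul_one]
  rw [h3] at h1
  have h4 : x ^ k * (1 - x * c 1) = 0 := by
    rw [pow_succ] at h1
    linear_combination -h1
  have hu : IsUnit (1 - x * c 1) := by
    refine (IsLocalRing.isUnit_or_isUnit_one_sub_self (x * c 1)).resolve_left fun h => ?_
    exact (mem_maximalIdeal _).1 (Ideal.mul_mem_right _ _ hxm) h
  exact hxp (hp.mem_of_pow_mem k ((hu.mul_left_eq_zero).1 h4 ▸ p.zero_mem))

theorem depth_bounds : ∀ (n : ℕ) (A : Type u) [CommRing A] [IsLocalRing A] [IsNoetherianRing A],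
    (∃ N, EVA A A N) → LocCoh.depth A A = n → ringKrullDim A ≤ n ∧ EVA A A n := by
  intro n
  induction n with
  | zero =>
    intro A _ _ _ ⟨N, hN⟩ hd
    have hinj := injective_self_of_depth_eq_zero hd hN
    refine ⟨ringKrullDim_le_zero_of_injective_self hinj, fun i hi => ?_⟩
    have := Module.injective_object_of_injective_module A A
    obtain ⟨j, rfl⟩ := Nat.exists_eq_add_one_of_ne_zero hi.ne'
    exact subsingleton_of_forall_eq 0 fun x => x.eq_zero_of_injective
  | succ n ih =>
    intro A _ _ _ ⟨N, hN⟩ hd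
    obtain ⟨f, hf, hreg⟩ := (H4Depth.one_le_idealDepth_iff
      (H4Depth.maximalIdeal_smul_top_ne_top (R := A) (M := A))).1 (show (1 : ℕ∞) ≤ _ from hd.ge.trans'
        (by exact_mod_cast Nat.one_le_iff_ne_zero.2 n.succ_ne_zero))
    have := isLocalRing_quotient hf
    have hq := H8Props.FlatDepth.depth_self_quotient_add_one A hf hreg _ rfl
    rw [hd] at hq
    push_cast at hq
    have hqB : LocCoh.depth (A ⧸ Ideal.span {f}) (A ⧸ Ideal.span {f}) = n :=
      WithTop.add_right_cancel ENat.one_ne_top hq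
    obtain ⟨h1, h2⟩ := ih _ ⟨N, fun i hi => by
      obtain ⟨j, rfl⟩ := Nat.exists_eq_add_one_of_ne_zero (show i ≠ 0 by omega)
      exact (eva_quotient_iff hf hreg j).1 (hN _ (by omega))⟩ hqB
    refine ⟨?_, fun i hi => ?_⟩
    · rw [← ringKrullDim_quotient_span_singleton_succ_eq_ringKrullDim hreg hf]
      push_cast
      exact add_le_add_left h1 1
    · obtain ⟨j, rfl⟩ : ∃ j, i = j + 2 := ⟨i - 2, by omega⟩
      exact (eva_quotient_iff hf hreg j).2 (h2 _ (by omega))

theorem depth_eq_ringKrullDim (A : Type u) [CommRing A] [LocCoh.IsGorensteinLocalRing A] :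
    ∃ n : ℕ, LocCoh.depth A A = n ∧ ringKrullDim A = n ∧ EVA A A n := by
  obtain ⟨N, hN⟩ := (isGorensteinLocalRing_iff_ext A).1 ‹_›
  obtain ⟨n, hn⟩ := ENat.ne_top_iff_exists.mp (H8Props.FlatDepth.depth_ne_top A A)
  obtain ⟨h1, h2⟩ := depth_bounds n A ⟨N, fun i hi => hN i hi.le⟩ hn.symm
  refine ⟨n, hn.symm, le_antisymm h1 ?_, h2⟩
  have := H4Depth.depth_le_supportDim (R := A) (M := A)
  rw [← hn, Module.supportDim_self_eq_ringKrullDim] at this
  exact this

theorem isCohenMacaulayLocalRing (A : Type u) [CommRing A] [LocCoh.IsGorensteinLocalRing A] :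
    LocCoh.IsCohenMacaulayLocalRing A := by
  obtain ⟨n, h1, h2, -⟩ := depth_eq_ringKrullDim A
  exact { supportDim_eq_depth := by rw [Module.supportDim_self_eq_ringKrullDim, h1, h2]; rfl }

end CM

end Groth.Agent.H4Goren
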