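import Groth.Agent.H4Goren.Basic
import Groth.Agent.H4LC.Torsion
import Groth.Agent.H4LC.Artinian
import Groth.Agent.H4LC.Depth
import Groth.Agent.H4LC.CdDim
import Groth.Agent.H4LC.ChangeRings

/-!
# The top local cohomology of a Gorenstein local ring is the hull of the residue field
-/

set_option autoImplicit false
set_option linter.unusedSectionVars false

universe u

open CategoryTheory CategoryTheory.Abelian IsLocalRing
open Groth.Agent.H4LC

namespace Groth.Agent.H4Goren

variable {A : Type u} [CommRing A] [IsLocalRing A] [IsNoetherianRing A]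

local notation "κ" => ModuleCat.of A (ResidueField A)

theorem subsingleton_ext_congr {M N : Type u} [AddCommGroup M] [Module A M] [AddCommGroup N]
    [Module A N] (e : M ≃ₗ[A] N) (X : ModuleCat.{u} A) (i : ℕ)
    (h : Subsingleton (Ext X (ModuleCat.of A M) i)) : Subsingleton (Ext X (ModuleCat.of A N) i) := by
  refine subsingleton_of_forall_eq 0 fun x => ?_
  rw [← x.comp_mk₀_id, ← e.toModuleIso.inv_hom_id, ← Ext.mk₀_comp_mk₀,
    ← Ext.comp_assoc_of_third_deg_zero,
    @Subsingleton.elim _ h (x.comp (Ext.mk₀ e.toModuleIso.inv) (add_zero i)) 0, Ext.zero_comp]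

theorem subsingleton_hom_residue_of_torsionSub (Z : Type u) [AddCommGroup Z] [Module A Z]
    (hZ : DRing.torsionSub (maximalIdeal A) Z = ⊥) :
    Subsingleton (Ext κ (ModuleCat.of A Z) 0) := by
  rw [H4Depth.subsingleton_ext_zero_iff]
  refine subsingleton_of_forall_eq 0 fun φ => LinearMap.ext fun x => ?_
  have h : φ x ∈ DRing.torsionSub (maximalIdeal A) Z := ⟨1, fun a ha => by
    rw [← map_smul]
    obtain ⟨r, rfl⟩ := IsLocalRing.residue_surjective x
    rw [pow_one] at ha
    rw [show a • residue A r = residue A (a * r) from rfl,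
      (residue_eq_zero_iff _).2 (Ideal.mul_mem_right r _ ha), map_zero]⟩
  rwa [hZ, Submodule.mem_bot] at h

theorem subsingleton_H_zero_of_torsionSub (I : Ideal A) (Z : Type u) [AddCommGroup Z] [Module A Z]
    (hZ : DRing.torsionSub I Z = ⊥) : Subsingleton (LocCoh.H I 0 Z) :=
  have : Subsingleton (DRing.torsionSub I Z) := by rw [hZ]; infer_instance
  (zeroEquiv I Z).toEquiv.subsingleton

/-- A module without torsion embeds into an injective module without torsion. -/
theorem exists_embedding_torsion_free (Z : Type u) [AddCommGroup Z] [Module A Z]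
    (hZ : DRing.torsionSub (maximalIdeal A) Z = ⊥) :
    ∃ (E : Type u) (_ : AddCommGroup E) (_ : Module A E) (ι : Z →ₗ[A] E),
      Function.Injective ι ∧ (∀ k, Subsingleton (LocCoh.H (maximalIdeal A) k E)) ∧
      ∀ k, Subsingleton (Ext κ (ModuleCat.of A E) k) := by
  obtain ⟨E₀, _, _, ι, hι, hE⟩ := H4Inj.exists_injective_embedding (R := A) Z
  let T := DRing.torsionSub (maximalIdeal A) E₀
  obtain ⟨C, hC⟩ := H4Inj.exists_isCompl_of_injective T (injective_torsionSub _ E₀ hE)
  have hinj : Module.Injective A (E₀ ⧸ T) :=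
    H4Inj.injective_of_equiv (T.quotientEquivOfIsCompl C hC) (H4Inj.injective_of_isCompl hE hC.symm)
  have hT := torsionSub_quotient_eq_bot (maximalIdeal A) E₀
  refine ⟨E₀ ⧸ T, inferInstance, inferInstance, T.mkQ ∘ₗ ι, ?_, fun k => ?_, fun k => ?_⟩
  · rw [injective_iff_map_eq_zero]
    intro z hz
    obtain ⟨n, hn⟩ := (Submodule.Quotient.mk_eq_zero T).1 hz
    have h : z ∈ DRing.torsionSub (maximalIdeal A) Z :=
      ⟨n, fun a ha => hι (by rw [map_smul, hn a ha, map_zero])⟩
    rwa [hZ, Submodule.mem_bot] at h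
  · rcases Nat.eq_zero_or_pos k with rfl | hk
    · exact subsingleton_H_zero_of_torsionSub _ _ hT
    · exact subsingleton_H_of_injective _ _ hk
  · rcases Nat.eq_zero_or_pos k with rfl | hk
    · exact subsingleton_hom_residue_of_torsionSub _ hT
    · have := Module.injective_object_of_injective_module A (E₀ ⧸ T)
      obtain ⟨j, rfl⟩ := Nat.exists_eq_add_one_of_ne_zero hk.ne'
      exact subsingleton_of_forall_eq 0 fun x => x.eq_zero_of_injective

theorem torsionSub_eq_bot_of_H_zero (I : Ideal A) (Z : Type u) [AddCommGroup Z] [Module A Z]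
    (h : Subsingleton (LocCoh.H I 0 Z)) : DRing.torsionSub I Z = ⊥ := by
  rw [Submodule.eq_bot_iff]
  intro z hz
  exact congrArg Subtype.val
    (@Subsingleton.elim _ ((zeroEquiv I Z).symm.toEquiv.subsingleton) ⟨z, hz⟩ 0)

/-- With no local cohomology at all, all `Ext` of the residue field vanish. -/
theorem subsingleton_ext_of_H_eq_zero : ∀ (i : ℕ) (Z : Type u) [AddCommGroup Z] [Module A Z],
    (∀ k, Subsingleton (LocCoh.H (maximalIdeal A) k Z)) → Subsingleton (Ext κ (ModuleCat.of A Z) i) := by
  intro i
  induction i with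
  | zero => exact fun Z _ _ h =>
      subsingleton_hom_residue_of_torsionSub Z (torsionSub_eq_bot_of_H_zero _ Z (h 0))
  | succ i ih =>
    intro Z _ _ h
    obtain ⟨E, _, _, ι, hι, hEH, hEx⟩ :=
      exists_embedding_torsion_free Z (torsionSub_eq_bot_of_H_zero _ Z (h 0))
    have hex : Function.Exact ι (LinearMap.range ι).mkQ := LinearMap.exact_map_mkQ_range ι
    exact H4Depth.subsingleton_ext_left _ hι (Submodule.mkQ_surjective _) hex i (hEx _) (ih _ fun k =>
      subsingleton_H_right _ hι (Submodule.mkQ_surjective _) hex k (hEH k) (h (k + 1)))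

/-- `Ext^i(κ, H^d_m(Z))` versus `Ext^{i+d}(κ, Z)` when `H^k_m(Z) = 0` for `k ≠ d`. -/
theorem subsingleton_ext_H_iff : ∀ (d i : ℕ) (Z : Type u) [AddCommGroup Z] [Module A Z],
    (∀ k, k ≠ d → Subsingleton (LocCoh.H (maximalIdeal A) k Z)) →
      (Subsingleton (Ext κ (ModuleCat.of A (LocCoh.H (maximalIdeal A) d Z)) i) ↔
        Subsingleton (Ext κ (ModuleCat.of A Z) (i + d))) := by
  intro d
  induction d with
  | zero =>
    intro i Z _ _ h
    let T := DRing.torsionSub (maximalIdeal A) Z
    have hQ : ∀ k, Subsingleton (LocCoh.H (maximalIdeal A) k (Z ⧸ T)) := fun k => by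
      cases k with
      | zero => exact subsingleton_H_zero_of_torsionSub _ _ (torsionSub_quotient_eq_bot _ Z)
      | succ k =>
        exact subsingleton_H_right _ T.injective_subtype T.mkQ_surjective
          (LinearMap.exact_subtype_mkQ T) (k + 1) (h _ k.succ_ne_zero)
          (subsingleton_H_of_isPowerTorsion _ _ _ (isPowerTorsion_torsionSub _ Z) (Nat.succ_pos _))
    have e1 : ∀ j, Subsingleton (Ext κ (ModuleCat.of A (Z ⧸ T)) j) := fun j =>
      subsingleton_ext_of_H_eq_zero j _ hQ
    constructor
    · intro hH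
      exact H4Depth.subsingleton_ext_mid _ T.injective_subtype T.mkQ_surjective
        (LinearMap.exact_subtype_mkQ T) _ (subsingleton_ext_congr (zeroEquiv _ Z) _ _ hH) (e1 _)
    · intro hZ
      refine subsingleton_ext_congr (zeroEquiv _ Z).symm _ _ ?_
      cases i with
      | zero => exact H4Depth.subsingleton_ext_left_zero (f := T.subtype) _ T.injective_subtype hZ
      | succ i =>
        exact H4Depth.subsingleton_ext_left _ T.injective_subtype T.mkQ_surjective
          (LinearMap.exact_subtype_mkQ T) i hZ (e1 i)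
  | succ d ih =>
    intro i Z _ _ h
    obtain ⟨E, _, _, ι, hι, hEH, hEx⟩ := exists_embedding_torsion_free Z
      (torsionSub_eq_bot_of_H_zero _ Z (h 0 (Nat.succ_ne_zero d).symm))
    let Z' := E ⧸ LinearMap.range ι
    have hex : Function.Exact ι (LinearMap.range ι).mkQ := LinearMap.exact_map_mkQ_range ι
    have hZ' : ∀ k, k ≠ d → Subsingleton (LocCoh.H (maximalIdeal A) k Z') := fun k hk =>
      subsingleton_H_right _ hι (Submodule.mkQ_surjective _) hex k (hEH k) (h _ (by omega))
    let e := LinearEquiv.ofBijective (δH (maximalIdeal A) hι (Submodule.mkQ_surjective _) hex d)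
      ⟨δH_injective _ hι (Submodule.mkQ_surjective _) hex d (hEH d),
        δH_surjective _ hι (Submodule.mkQ_surjective _) hex d (hEH (d + 1))⟩
    have key : Subsingleton (Ext κ (ModuleCat.of A Z') (i + d)) ↔
        Subsingleton (Ext κ (ModuleCat.of A Z) (i + (d + 1))) :=
      ⟨fun hh => H4Depth.subsingleton_ext_left _ hι (Submodule.mkQ_surjective _) hex _ (hEx _) hh,
        fun hh => H4Depth.subsingleton_ext_right _ hι (Submodule.mkQ_surjective _) hex _ (hEx _) hh⟩
    rw [← key, ← ih i Z' hZ']
    exact ⟨subsingleton_ext_congr e.symm _ _, subsingleton_ext_congr e _ _⟩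

/-- A torsion module with `Ext¹(κ, ·) = 0` is injective. -/
theorem injective_of_torsion_of_ext_one {Q : Type u} [AddCommGroup Q] [Module A Q]
    (hQ : LocCoh.IsPowerTorsion (maximalIdeal A) Q)
    (h1 : Subsingleton (Ext κ (ModuleCat.of A Q) 1)) : Module.Injective A Q := by
  obtain ⟨E, _, _, g, hg⟩ := H4Inj.exists_isInjectiveHull (R := A) Q
  suffices hs : Function.Surjective g from
    H4Inj.injective_of_equiv (LinearEquiv.ofBijective g ⟨hg.injective, hs⟩) hg.isInjective
  -- the hull is power torsion
  let T := DRing.torsionSub (maximalIdeal A) E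
  obtain ⟨C, hC⟩ := H4Inj.exists_isCompl_of_injective T (injective_torsionSub _ E hg.isInjective)
  have hC0 : C = ⊥ := by
    by_contra hne
    refine hg.essential C hne ((Submodule.eq_bot_iff _).2 fun x hx => ?_)
    obtain ⟨q, rfl⟩ := hx.2
    exact (Submodule.disjoint_def.1 hC.disjoint) _ (DRing.map_mem_torsionSub _ g (hQ q)) hx.1
  have hET : T = ⊤ := by rw [← hC.sup_eq_top, hC0, sup_bot_eq]
  intro e
  by_contra hne
  have hexists : ∀ (n : ℕ) (e : E), (∀ a ∈ maximalIdeal A ^ n, a • e = 0) → e ∈ LinearMap.range g := by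
    intro n
    induction n with
    | zero =>
      intro e he
      rw [show e = 0 by simpa using he 1 (by simp)]
      exact zero_mem _
    | succ n ih =>
      intro e he
      by_contra hne
      have hm : ∀ a ∈ maximalIdeal A, a • e ∈ LinearMap.range g := fun a ha => ih _ fun b hb => by
        rw [← mul_smul]
        exact he _ (by rw [pow_succ]; exact Ideal.mul_mem_mul hb ha)
      let φ : ResidueField A →ₗ[A] E ⧸ LinearMap.range g :=
        Submodule.liftQ (maximalIdeal A)
          ((LinearMap.range g).mkQ ∘ₗ LinearMap.toSpanSingleton A E e) fun a ha =>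
            (Submodule.Quotient.mk_eq_zero _).2 (hm a ha)
      have hE : Module.Injective A E := hg.isInjective
      obtain ⟨ψ, hψ⟩ := (subsingleton_ext_one_iff κ hg.injective (Submodule.mkQ_surjective _)
        (LinearMap.exact_map_mkQ_range g)).1 h1 φ
      let one : ResidueField A := residue A 1
      have hk : ∀ a ∈ maximalIdeal A, a • ψ one = 0 := fun a ha => by
        rw [← map_smul, show a • one = residue A (a * 1) from rfl, mul_one,
          (residue_eq_zero_iff _).2 ha, map_zero]
      have hmem : ψ one ∈ LinearMap.range g := by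
        rcases eq_or_ne (ψ one) 0 with h0 | h0
        · rw [h0]; exact zero_mem _
        obtain ⟨r, hr, hr0⟩ := H4Inj.exists_smul_mem_range hg.toIsEssentialInj h0
        have hru : IsUnit r := by
          by_contra h
          exact hr0 (hk r ((mem_maximalIdeal r).2 h))
        exact (Submodule.smul_mem_iff_of_isUnit _ hru).1 hr
      refine hne ?_
      have h2 : (LinearMap.range g).mkQ e = (LinearMap.range g).mkQ (ψ one) := by
        have := LinearMap.congr_fun hψ one
        exact ((congrArg _ (one_smul A e)).symm.trans this.symm)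
      rw [Submodule.mkQ_apply, Submodule.mkQ_apply, (Submodule.Quotient.mk_eq_zero _).2 hmem,
        Submodule.Quotient.mk_eq_zero] at h2
      exact h2
  obtain ⟨n, hn⟩ : e ∈ T := hET ▸ Submodule.mem_top
  exact hne (hexists n e hn)

/-- Socle of the top local cohomology: nonzero cyclic. -/
theorem exists_socle_generator : ∀ (n : ℕ) (A : Type u) [CommRing A] [LocCoh.IsGorensteinLocalRing A],
    ringKrullDim A = n → ∃ x ∈ LocCoh.torsionBy (maximalIdeal A) (LocCoh.H (maximalIdeal A) n A),
      x ≠ 0 ∧ ∀ y ∈ LocCoh.torsionBy (maximalIdeal A) (LocCoh.H (maximalIdeal A) n A),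
        ∃ r : A, r • x = y := by
  intro n
  induction n with
  | zero =>
    intro A _ _ hd
    obtain ⟨k, hk, hk', hE⟩ := depth_eq_ringKrullDim A
    obtain rfl : k = 0 := by exact_mod_cast hk'.symm.trans hd
    have hinj := injective_self_of_depth_eq_zero hk hE
    have hA : LocCoh.IsPowerTorsion (maximalIdeal A) A := fun a => by
      have : Ring.KrullDimLE 0 A := Ring.krullDimLE_iff.2 hd.le
      have : IsArtinianRing A :=
        isArtinianRing_iff_isNoetherianRing_krullDimLE_zero.2 ⟨inferInstance, inferInstance⟩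
      obtain ⟨N, hN⟩ := IsArtinianRing.isNilpotent_jacobson_bot (R := A)
      refine ⟨N, fun b hb => ?_⟩
      rw [IsLocalRing.jacobson_eq_maximalIdeal (⊥ : Ideal A) bot_ne_top, Ideal.zero_eq_bot] at hN
      rw [hN, Ideal.mem_bot] at hb
      rw [hb, zero_smul]
    let e := zeroEquivOfTorsion (maximalIdeal A) hA
    obtain ⟨p, hp, hle⟩ := (H4Depth.idealDepth_eq_zero_iff_exists_associatedPrime
      (H4Depth.maximalIdeal_smul_top_ne_top (R := A) (M := A))).1 hk
    obtain rfl : p = maximalIdeal A := le_antisymm (le_maximalIdeal hp.isPrime.ne_top) hle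
    obtain ⟨-, v, hv⟩ := isAssociatedPrime_iff.mp hp
    have hv' : ∀ a, a ∈ maximalIdeal A ↔ a • v = 0 := fun a => by
      rw [hv, Submodule.mem_colon_singleton, Submodule.mem_bot]
    refine ⟨e.symm v, (Submodule.mem_torsionBySet_iff _ _).2 fun a => ?_, fun h => ?_, fun y hy => ?_⟩
    · rw [← map_smul, (hv' a).1 a.2, map_zero]
    · have : v = 0 := e.symm.injective (h.trans (map_zero _).symm)
      exact hp.isPrime.ne_top (by rw [hv, this]; simp)
    · let w := e y
      have hw : ∀ a ∈ maximalIdeal A, a * w = 0 := fun a ha => by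
        rw [← smul_eq_mul, ← map_smul, (Submodule.mem_torsionBySet_iff _ _).1 hy ⟨a, ha⟩, map_zero]
      let μ : A →ₗ[A] A := LinearMap.toSpanSingleton A A v
      let φ : LinearMap.range μ →ₗ[A] A := (LinearMap.ker μ).liftQ (LinearMap.toSpanSingleton A A w)
        (fun a ha => by simpa using hw a ((hv' a).2 (by simpa [μ] using ha))) ∘ₗ
          μ.quotKerEquivRange.symm.toLinearMap
      obtain ⟨c, hc⟩ := Module.Injective.extension_property (inj := hinj) A A _ A
        (LinearMap.range μ).subtype Subtype.val_injective φ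
      refine ⟨c 1, e.injective ?_⟩
      rw [map_smul, e.apply_symm_apply, smul_eq_mul]
      have h1 := LinearMap.congr_fun hc ⟨μ 1, 1, rfl⟩
      have h2 : φ ⟨μ 1, 1, rfl⟩ = w := by
        simp only [φ, LinearMap.comp_apply, LinearEquiv.coe_coe]
        rw [show μ.quotKerEquivRange.symm ⟨μ 1, 1, rfl⟩ = Submodule.Quotient.mk 1 from
          μ.quotKerEquivRange.symm_apply_eq.2 (Subtype.ext rfl)]
        exact one_smul A w
      rw [h2, LinearMap.comp_apply, Submodule.subtype_apply] at h1
      simp only [μ, LinearMap.toSpanSingleton_apply, one_smul] at h1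
      change c 1 * v = w
      rw [← h1, mul_comm, ← smul_eq_mul, ← map_smul, smul_eq_mul, mul_one]
  | succ n ih =>
    intro A _ _ hd
    obtain ⟨k, hk, hk', hE⟩ := depth_eq_ringKrullDim A
    obtain rfl : k = n + 1 := by exact_mod_cast hk'.symm.trans hd
    obtain ⟨f, hf, hreg⟩ := (H4Depth.one_le_idealDepth_iff
      (H4Depth.maximalIdeal_smul_top_ne_top (R := A) (M := A))).1 (show (1 : ℕ∞) ≤ _ from hk.ge.trans'
        (by exact_mod_cast Nat.one_le_iff_ne_zero.2 n.succ_ne_zero))
    have := isLocalRing_quotient hf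
    let B := A ⧸ Ideal.span {f}
    have hGB : LocCoh.IsGorensteinLocalRing B :=
      (isGorensteinLocalRing_quotient_iff hf hreg).1 ‹_›
    have hdB : ringKrullDim B = n := by
      have h := ringKrullDim_quotient_span_singleton_succ_eq_ringKrullDim hreg hf
      rw [hd] at h
      obtain ⟨m, hm⟩ := H4Depth.exists_nat_ringKrullDim_eq (R := B)
      rw [hm] at h ⊢
      norm_cast at h ⊢
      omega
    have key := ih B hdB
    obtain ⟨φ, hφ⟩ := exists_H_map_equiv B (maximalIdeal A) B n
    have hm : (maximalIdeal A).map (algebraMap A B) = maximalIdeal B :=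
      IsLocalRing.map_maximalIdeal_of_surjective _ Ideal.Quotient.mk_surjective
    rw [← hm] at key
    obtain ⟨x₀, hx₀, hx₀0, hgen⟩ := key
    let μ : A →ₗ[A] A := f • LinearMap.id
    let q : A →ₗ[A] B := Algebra.linearMap A B
    have hμ : Function.Injective μ := hreg
    have hq : Function.Surjective q := Ideal.Quotient.mk_surjective
    have hex : Function.Exact μ q := fun a => by
      change Ideal.Quotient.mk _ a = 0 ↔ _
      rw [Ideal.Quotient.eq_zero_iff_mem, Ideal.mem_span_singleton']
      exact exists_congr fun c => by simp [μ, mul_comm, eq_comm]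
    have hlow : Subsingleton (LocCoh.H (maximalIdeal A) n A) :=
      subsingleton_H_of_lt_idealDepth _ A (show (n : ℕ∞) < _ from
        (show ((n : ℕ) : ℕ∞) < (n + 1 : ℕ) by exact_mod_cast n.lt_succ_self).trans_eq hk.symm)
    let δ := δH (maximalIdeal A) hμ hq hex n
    have hδ : Function.Injective δ := δH_injective _ hμ hq hex n hlow
    refine ⟨δ (φ x₀), (Submodule.mem_torsionBySet_iff _ _).2 fun a => ?_, fun h => ?_, fun y hy => ?_⟩
    · rw [← map_smul]
      change δ ((a : A) • φ x₀) = 0
      rw [← hφ, (Submodule.mem_torsionBySet_iff _ _).1 hx₀ ⟨_, Ideal.mem_map_of_mem _ a.2⟩,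
        map_zero, map_zero]
    · exact hx₀0 (φ.injective ((hδ (h.trans (map_zero δ).symm)).trans (map_zero φ).symm))
    · obtain ⟨w, rfl⟩ : ∃ w, δ w = y := (exactH₁ _ hμ hq hex n y).1 (by
        rw [Hmap_smul_id]
        exact (Submodule.mem_torsionBySet_iff _ _).1 hy ⟨f, hf⟩)
      have hw : ∀ a ∈ maximalIdeal A, a • w = 0 := fun a ha => hδ (by
        rw [map_smul, map_zero]
        exact (Submodule.mem_torsionBySet_iff _ _).1 hy ⟨a, ha⟩)
      obtain ⟨r, hr⟩ := hgen (φ.symm w) ((Submodule.mem_torsionBySet_iff _ _).2 fun b => by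
        obtain ⟨a, ha, hab⟩ := (Ideal.mem_map_iff_of_surjective _ Ideal.Quotient.mk_surjective).1 b.2
        change (b : B) • φ.symm w = 0
        refine φ.injective ?_
        rw [← hab, map_zero, ← Ideal.Quotient.algebraMap_eq, hφ, φ.apply_symm_apply]
        exact hw a ha)
      obtain ⟨a, rfl⟩ := Ideal.Quotient.mk_surjective r
      refine ⟨a, ?_⟩
      rw [← map_smul, ← hφ, show algebraMap A B a • x₀ = φ.symm w from hr, φ.apply_symm_apply]

theorem subsingleton_H_of_ne (A : Type u) [CommRing A] [LocCoh.IsGorensteinLocalRing A] {n : ℕ}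
    (hn : ringKrullDim A = n) {k : ℕ} (hk : k ≠ n) :
    Subsingleton (LocCoh.H (maximalIdeal A) k A) := by
  obtain ⟨j, hj, hj', -⟩ := depth_eq_ringKrullDim A
  obtain rfl : j = n := by exact_mod_cast hj'.symm.trans hn
  rcases lt_or_gt_of_ne hk with h | h
  · exact subsingleton_H_of_lt_idealDepth _ A (show (k : ℕ∞) < _ from
      (show (k : ℕ∞) < (j : ℕ∞) by exact_mod_cast h).trans_eq hj.symm)
  · exact subsingleton_H_of_supportDim_lt _ k A (by
      rw [Module.supportDim_self_eq_ringKrullDim, hn]; exact_mod_cast h)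

theorem injective_H_top (A : Type u) [CommRing A] [LocCoh.IsGorensteinLocalRing A] (n : ℕ)
    (hn : ringKrullDim A = n) : Module.Injective A (LocCoh.H (maximalIdeal A) n A) := by
  obtain ⟨j, hj, hj', hE⟩ := depth_eq_ringKrullDim A
  obtain rfl : j = n := by exact_mod_cast hj'.symm.trans hn
  refine injective_of_torsion_of_ext_one (isPowerTorsion_H _ _ A) ?_
  exact (subsingleton_ext_H_iff j 1 A fun k hk => subsingleton_H_of_ne A hn hk).2 (hE _ (by omega))

theorem exists_isInjectiveHull_H_top (A : Type u) [CommRing A] [LocCoh.IsGorensteinLocalRing A]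
    (n : ℕ) (hn : ringKrullDim A = n) :
    ∃ g : ResidueField A →ₗ[A] LocCoh.H (maximalIdeal A) n A, InjHull.IsInjectiveHull g := by
  obtain ⟨x, hx, hx0, hgen⟩ := exists_socle_generator n A hn
  exact H4Matlis.exists_hull_of_socle_cyclic (hm := maximalIdeal.isMaximal A)
    (injective_H_top A n hn) (isPowerTorsion_H _ _ A) hx hx0 hgen

theorem isGorenstein_iff_H (A : Type u) [CommRing A] [IsLocalRing A] [IsNoetherianRing A] :
    LocCoh.IsGorensteinLocalRing A ↔ ∃ d : ℕ,
      (∀ i : ℕ, i ≠ d → Subsingleton (LocCoh.H (maximalIdeal A) i A)) ∧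
        Module.Injective A (LocCoh.H (maximalIdeal A) d A) := by
  constructor
  · intro h
    obtain ⟨n, -, hn, -⟩ := depth_eq_ringKrullDim A
    exact ⟨n, fun i hi => subsingleton_H_of_ne A hn hi, injective_H_top A n hn⟩
  · rintro ⟨d, hd, hinj⟩
    refine (isGorensteinLocalRing_iff_ext A).2 ⟨d + 1, fun i hi => ?_⟩
    obtain ⟨j, rfl⟩ : ∃ j, i = (j + 1) + d := ⟨i - d - 1, by omega⟩
    refine (subsingleton_ext_H_iff d (j + 1) A hd).1 (subsingleton_of_forall_eq 0 fun x => ?_)
    have := Module.injective_object_of_injective_module A (LocCoh.H (maximalIdeal A) d A)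
    exact x.eq_zero_of_injective

/-- Positive depth is detected by the top `Ext` into a Gorenstein ring. -/
theorem zero_lt_depth_iff (A : Type u) [CommRing A] [LocCoh.IsGorensteinLocalRing A] (n : ℕ)
    (hn : ringKrullDim A = n) (M : Type u) [AddCommGroup M] [Module A M] [Module.Finite A M]
    [Nontrivial M] :
    0 < LocCoh.depth A M ↔ Subsingleton (Ext (ModuleCat.of A M) (ModuleCat.of A A) n) := by
  obtain ⟨j, hj, hj', hE⟩ := depth_eq_ringKrullDim A
  obtain rfl : j = n := by exact_mod_cast hj'.symm.trans hn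
  have hid := hasInjectiveDimensionLT_of_eva A A hE
  have hm := H4Depth.maximalIdeal_smul_top_ne_top (R := A) (M := M)
  constructor
  · intro h
    obtain ⟨x, hx, hreg⟩ := (H4Depth.one_le_idealDepth_iff hm).1 (Order.one_le_iff_pos.2 h)
    let μ : M →ₗ[A] M := x • LinearMap.id
    have hμ : Function.Injective μ := hreg
    by_contra hne
    have := not_subsingleton_iff_nontrivial.1 hne
    refine Submodule.top_ne_pointwise_smul_of_mem_jacobson_annihilator
      (M := Ext (ModuleCat.of A M) (ModuleCat.of A A) j)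
      ((IsLocalRing.maximalIdeal_le_jacobson _) hx) ?_
    rw [eq_comm, eq_top_iff]
    intro e _
    obtain ⟨y, hy⟩ := Ext.contravariant_sequence_exact₁
      (H4Depth.shortComplexOf_shortExact μ (LinearMap.range μ).mkQ hμ (Submodule.mkQ_surjective _)
        (LinearMap.exact_map_mkQ_range μ)) _ e (n₁ := j + 1) (by omega)
      (Ext.eq_zero_of_hasInjectiveDimensionLT _ (j + 1) le_rfl)
    have hy' : (Ext.mk₀ (ModuleCat.ofHom μ)).comp y (zero_add j) = e := hy
    rw [← hy', show ModuleCat.ofHom μ = x • 𝟙 (ModuleCat.of A M) from rfl, Ext.mk₀_smul]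
    erw [Ext.smul_comp, Ext.mk₀_id_comp]
    exact Submodule.smul_mem_pointwise_smul _ _ ⊤ trivial
  · intro h
    by_contra h0
    obtain ⟨p, hp, hle⟩ := (H4Depth.idealDepth_eq_zero_iff_exists_associatedPrime hm).1
      (nonpos_iff_eq_zero.1 (not_lt.1 h0))
    obtain rfl : p = maximalIdeal A := le_antisymm (le_maximalIdeal hp.isPrime.ne_top) hle
    obtain ⟨-, v, hv⟩ := isAssociatedPrime_iff.mp hp
    have hv' : ∀ a, a ∈ maximalIdeal A ↔ a • v = 0 := fun a => by
      rw [hv, Submodule.mem_colon_singleton, Submodule.mem_bot]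
    let g : ResidueField A →ₗ[A] M := Submodule.liftQ (maximalIdeal A)
      (LinearMap.toSpanSingleton A M v) fun a ha => by simpa using (hv' a).1 ha
    have hg : Function.Injective g := LinearMap.ker_eq_bot.1 (Submodule.ker_liftQ_eq_bot _ _ _
      fun a ha => (hv' a).2 (by simpa using ha))
    have hk : Subsingleton (Ext (ModuleCat.of A (ResidueField A)) (ModuleCat.of A A) j) := by
      refine subsingleton_of_forall_eq 0 fun x => ?_
      obtain ⟨y, rfl⟩ := Ext.contravariant_sequence_exact₁
        (H4Depth.shortComplexOf_shortExact g (LinearMap.range g).mkQ hg (Submodule.mkQ_surjective _)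
          (LinearMap.exact_map_mkQ_range g)) _ x (n₁ := j + 1) (by omega)
        (Ext.eq_zero_of_hasInjectiveDimensionLT _ (j + 1) le_rfl)
      have hy : y = 0 := @Subsingleton.elim _ h y 0
      subst hy
      simp
      rfl
    have hH := (subsingleton_ext_H_iff j 0 A fun k hk => subsingleton_H_of_ne A hn hk).2
      (by rw [zero_add]; exact hk)
    rw [H4Depth.subsingleton_ext_zero_iff] at hH
    obtain ⟨g', hg'⟩ := exists_isInjectiveHull_H_top A j hn
    have := @Subsingleton.elim _ hH g' 0
    exact one_ne_zero (α := ResidueField A) (hg'.injective (by rw [this]; rfl))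

end Groth.Agent.H4Goren
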