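import Groth.Agent.H4Goren.Basic

/-!
# Double annihilators in zero-dimensional Gorenstein rings
-/

set_option autoImplicit false
set_option linter.style.haveILetI false

universe u

open IsLocalRing

namespace Groth.Agent.H4Goren

variable {A : Type u} [CommRing A]

theorem exists_add_of_kills_inf (hA : Module.Baer A A) (I K : Ideal A) {x : A}
    (hx : ∀ a ∈ I ⊓ K, x * a = 0) : ∃ c : A, (∀ k ∈ K, c * k = 0) ∧ ∀ i ∈ I, (x - c) * i = 0 := by
  let f : I × K →ₗ[A] A := (LinearMap.lsmul A A x ∘ₗ I.subtype) ∘ₗ LinearMap.fst A I K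
  let s : I × K →ₗ[A] A := I.subtype.coprod K.subtype
  let e := s.quotKerEquivRange
  have hker : LinearMap.ker s ≤ LinearMap.ker f := fun p hp => by
    have h1 : (p.1 : A) + p.2 = 0 := hp
    have hmem : (p.1 : A) ∈ I ⊓ K := ⟨p.1.2, by rw [eq_neg_of_add_eq_zero_left h1]; exact K.neg_mem p.2.2⟩
    exact hx _ hmem
  obtain ⟨g, hg⟩ := hA (LinearMap.range s) ((LinearMap.ker s).liftQ f hker ∘ₗ e.symm.toLinearMap)
  have hval : ∀ p : I × K, g (s p) = x * (p.1 : A) := fun p => by
    rw [hg (s p) ⟨p, rfl⟩, LinearMap.comp_apply, LinearEquiv.coe_coe,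
      show (⟨s p, ⟨p, rfl⟩⟩ : LinearMap.range s) = e (Submodule.Quotient.mk p) from rfl, e.symm_apply_apply]
    rfl
  have hlin : ∀ a : A, g a = g 1 * a := fun a => by
    conv_lhs => rw [← mul_one a, ← smul_eq_mul, map_smul]
    rw [smul_eq_mul, mul_comm]
  refine ⟨g 1, fun k hk => ?_, fun i hi => ?_⟩
  · rw [← hlin]
    simpa [s] using hval (0, ⟨k, hk⟩)
  · rw [sub_mul, ← hlin, sub_eq_zero]
    simpa [s] using (hval (⟨i, hi⟩, 0)).symm

theorem mem_span_singleton_of_kills (hA : Module.Baer A A) (a : A) {x : A}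
    (h : ∀ r : A, r * a = 0 → x * r = 0) : x ∈ Ideal.span {a} := by
  let s : A →ₗ[A] A := LinearMap.toSpanSingleton A A a
  let f : A →ₗ[A] A := LinearMap.lsmul A A x
  let e := s.quotKerEquivRange
  have hker : LinearMap.ker s ≤ LinearMap.ker f := fun r hr => h r hr
  obtain ⟨g, hg⟩ := hA (LinearMap.range s) ((LinearMap.ker s).liftQ f hker ∘ₗ e.symm.toLinearMap)
  have h1 : g a = x := by
    rw [hg a ⟨1, one_mul a⟩, LinearMap.comp_apply, LinearEquiv.coe_coe,
      show (⟨a, ⟨1, one_mul a⟩⟩ : LinearMap.range s) = e (Submodule.Quotient.mk 1) from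
        Subtype.ext (one_mul a).symm, e.symm_apply_apply]
    exact mul_one x
  refine Ideal.mem_span_singleton'.2 ⟨g 1, ?_⟩
  rw [mul_comm, ← smul_eq_mul, ← map_smul, smul_eq_mul, mul_one, h1]

/-- In a self-injective ring finitely generated ideals are double annihilators. -/
theorem mem_of_kills_annihilator (hA : Module.Baer A A) {J : Ideal A} (hJ : J.FG) : ∀ {x : A},
    (∀ r : A, (∀ a ∈ J, r * a = 0) → x * r = 0) → x ∈ J := by
  refine Submodule.fg_induction (motive := fun J _ => ∀ {x : A}, (∀ r : A, (∀ a ∈ J, r * a = 0) → x * r = 0) → x ∈ J)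
    (fun a {x} h => ?_) (fun J₁ J₂ _ _ h1 h2 {x} h => ?_) J hJ
  · refine mem_span_singleton_of_kills hA a fun r hr => h r fun b hb => ?_
    obtain ⟨c, rfl⟩ := Ideal.mem_span_singleton'.1 hb
    rw [mul_left_comm, hr, mul_zero]
  · let ann : Ideal A → Ideal A := fun J => Submodule.annihilator J
    obtain ⟨c, hc2, hc1⟩ := exists_add_of_kills_inf hA (ann J₁) (ann J₂) (x := x) fun r hr => h r fun a ha => by
      obtain ⟨a1, ha1, a2, ha2, rfl⟩ := Submodule.mem_sup.1 ha
      rw [mul_add, show r * a1 = 0 from Submodule.mem_annihilator.1 hr.1 a1 ha1,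
        show r * a2 = 0 from Submodule.mem_annihilator.1 hr.2 a2 ha2, add_zero]
    have hx1 : x - c ∈ J₁ := h1 fun r hr => hc1 r (Submodule.mem_annihilator.2 fun a ha => hr a ha)
    have hx2 : c ∈ J₂ := h2 fun r hr => hc2 r (Submodule.mem_annihilator.2 fun a ha => hr a ha)
    exact Submodule.mem_sup.2 ⟨_, hx1, _, hx2, sub_add_cancel x c⟩

variable (A) in
/-- A zero-dimensional Gorenstein local ring is self-injective. -/
theorem baer_self_of_dim_zero [LocCoh.IsGorensteinLocalRing A] (h0 : ringKrullDim A ≤ 0) : Module.Baer A A := by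
  obtain ⟨r, hd, hr, -⟩ := depth_eq_ringKrullDim A
  obtain ⟨N, hN⟩ := (isGorensteinLocalRing_iff_ext (A := A)).1 inferInstance
  have hr0 : r = 0 := by
    rw [hr] at h0
    exact_mod_cast le_antisymm h0 (by exact_mod_cast Nat.zero_le r)
  exact Module.Baer.of_injective (injective_self_of_depth_eq_zero (by rw [hd, hr0]; rfl) (n := N) fun i hi => hN i hi.le)

end Groth.Agent.H4Goren
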