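import Groth.Agent.H4Depth.ExtBasic
import Groth.Agent.H4Matlis.Socle
import Mathlib.Algebra.Homology.DerivedCategory.Ext.EnoughInjectives
import Mathlib.Algebra.Category.ModuleCat.EnoughInjectives

/-!
# Change of rings for `Ext` into a divisible module

For an `f`-divisible `A`-module `Z` and a module `X` over `B = A/(f)`, `Ext_A^i(X, Z)` vanishes iff
`Ext_B^i(X, Z[f])` does. Applied to `A_f/A` this is Rees' lemma.
-/

set_option autoImplicit false
set_option linter.unusedSectionVars false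

universe u

open CategoryTheory CategoryTheory.Abelian

namespace Groth.Agent.H4Goren

section OneRing

variable {A : Type u} [CommRing A] (X : ModuleCat.{u} A) {Z E Z' : Type u} [AddCommGroup Z]
  [Module A Z] [AddCommGroup E] [Module A E] [AddCommGroup Z'] [Module A Z'] {ι : Z →ₗ[A] E}
  {π : E →ₗ[A] Z'} (hι : Function.Injective ι) (hπ : Function.Surjective π)
  (hex : Function.Exact ι π) [Module.Injective A E]

include hι hπ hex in
theorem subsingleton_ext_succ_succ_iff (i : ℕ) :
    Subsingleton (Ext X (ModuleCat.of A Z) (i + 2)) ↔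
      Subsingleton (Ext X (ModuleCat.of A Z') (i + 1)) := by
  have hinj := Module.injective_object_of_injective_module A E
  have h0 : ∀ k, Subsingleton (Ext X (ModuleCat.of A E) (k + 1)) := fun k =>
    subsingleton_of_forall_eq 0 fun x => x.eq_zero_of_injective
  exact ⟨fun h => H4Depth.subsingleton_ext_right X hι hπ hex _ (h0 i) h,
    fun h => H4Depth.subsingleton_ext_left X hι hπ hex _ (h0 (i + 1)) h⟩

include hι hπ hex in
theorem subsingleton_ext_one_iff :
    Subsingleton (Ext X (ModuleCat.of A Z) 1) ↔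
      ∀ φ : X →ₗ[A] Z', ∃ ψ : X →ₗ[A] E, π ∘ₗ ψ = φ := by
  have hinj := Module.injective_object_of_injective_module A E
  have hS := H4Depth.shortComplexOf_shortExact ι π hι hπ hex
  constructor
  · intro h φ
    obtain ⟨x, hx⟩ := Ext.covariant_sequence_exact₃ X hS (Ext.mk₀ (ModuleCat.ofHom φ)) (n₁ := 1)
      rfl (@Subsingleton.elim _ h _ _)
    obtain ⟨ψ, rfl⟩ := (Ext.mk₀_bijective _ _).2 x
    rw [Ext.mk₀_comp_mk₀] at hx
    exact ⟨ψ.hom, congrArg ModuleCat.Hom.hom ((Ext.mk₀_bijective _ _).1 hx)⟩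
  · intro h
    refine subsingleton_of_forall_eq 0 fun x => ?_
    obtain ⟨y, rfl⟩ := Ext.covariant_sequence_exact₁ X hS x
      (Ext.eq_zero_of_injective (I := ModuleCat.of A E) _) (n₀ := 0) rfl
    obtain ⟨φ, rfl⟩ := (Ext.mk₀_bijective _ _).2 y
    obtain ⟨ψ, hψ⟩ := h φ.hom
    obtain ⟨ψ, rfl⟩ : ∃ g : X ⟶ (H4Depth.shortComplexOf ι π hex).X₂,
        g ≫ (H4Depth.shortComplexOf ι π hex).g = φ := ⟨ModuleCat.ofHom ψ, ModuleCat.hom_ext hψ⟩
    rw [← Ext.mk₀_comp_mk₀, Ext.comp_assoc_of_second_deg_zero, hS.comp_extClass, Ext.comp_zero]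
    rfl

end OneRing

variable {A : Type u} [CommRing A] (f : A)

/-- `Z[f]`, a module over `A/(f)`. -/
abbrev ker' (Z : Type u) [AddCommGroup Z] [Module A Z] : Submodule A Z :=
  LocCoh.torsionBy (Ideal.span {f}) Z

theorem mem_ker'_iff {Z : Type u} [AddCommGroup Z] [Module A Z] {z : Z} :
    z ∈ ker' f Z ↔ f • z = 0 := by
  refine (Submodule.mem_torsionBySet_iff _ _).trans ⟨fun h => h ⟨f, Ideal.mem_span_singleton_self f⟩,
    fun h a => ?_⟩
  obtain ⟨c, hc⟩ := Ideal.mem_span_singleton'.1 a.2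
  change (a : A) • z = 0
  rw [← hc, mul_smul, h, smul_zero]

variable (X : Type u) [AddCommGroup X] [Module A X] [Module (A ⧸ Ideal.span {f}) X]
  [IsScalarTower A (A ⧸ Ideal.span {f}) X]

theorem smul_eq_zero_of_tower (x : X) : f • x = 0 := by
  rw [← IsScalarTower.algebraMap_smul (A ⧸ Ideal.span {f}) f x, Ideal.Quotient.algebraMap_eq,
    Ideal.Quotient.eq_zero_iff_mem.2 (Ideal.mem_span_singleton_self f), zero_smul]

/-- The map on `f`-torsion induced by a linear map. -/
noncomputable def kerMap {Z Z' : Type u} [AddCommGroup Z] [Module A Z] [AddCommGroup Z']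
    [Module A Z'] (g : Z →ₗ[A] Z') : ker' f Z →ₗ[A ⧸ Ideal.span {f}] ker' f Z' where
  toFun z := ⟨g z.1, (mem_ker'_iff f).2 (by
    rw [← map_smul, (mem_ker'_iff f).1 z.2, map_zero])⟩
  map_add' z w := Subtype.ext (map_add g z.1 w.1)
  map_smul' c z := by
    obtain ⟨c, rfl⟩ := Ideal.Quotient.mk_surjective c
    exact Subtype.ext (map_smul g c z.1)

theorem kerMap_val {Z Z' : Type u} [AddCommGroup Z] [Module A Z] [AddCommGroup Z'] [Module A Z']
    (g : Z →ₗ[A] Z') (z : ker' f Z) : (kerMap f g z : Z') = g z.1 := rfl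

/-- A map out of an `A/(f)`-module lands in the `f`-torsion. -/
noncomputable def toKer {Z : Type u} [AddCommGroup Z] [Module A Z] (φ : X →ₗ[A] Z) :
    X →ₗ[A ⧸ Ideal.span {f}] ker' f Z where
  toFun x := ⟨φ x, (mem_ker'_iff f).2 (by rw [← map_smul, smul_eq_zero_of_tower f X x, map_zero])⟩
  map_add' x y := Subtype.ext (map_add φ x y)
  map_smul' c x := by
    obtain ⟨c, rfl⟩ := Ideal.Quotient.mk_surjective c
    refine Subtype.ext ?_
    change φ (Ideal.Quotient.mk _ c • x) = c • φ x
    rw [← Ideal.Quotient.algebraMap_eq, IsScalarTower.algebraMap_smul, map_smul]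

theorem subsingleton_hom_ker_iff {Z : Type u} [AddCommGroup Z] [Module A Z] :
    Subsingleton (X →ₗ[A] Z) ↔ Subsingleton (X →ₗ[A ⧸ Ideal.span {f}] ker' f Z) := by
  constructor
  · intro h
    refine subsingleton_of_forall_eq 0 fun φ => LinearMap.ext fun x => Subtype.ext ?_
    exact LinearMap.congr_fun (Subsingleton.elim ((ker' f Z).subtype ∘ₗ φ.restrictScalars A) 0) x
  · intro h
    refine subsingleton_of_forall_eq 0 fun φ => LinearMap.ext fun x => ?_
    exact congrArg Subtype.val (LinearMap.congr_fun (Subsingleton.elim (toKer f X φ) 0) x)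

theorem smul_surjective_of_injective (hf : IsSMulRegular A f) (E : Type u) [AddCommGroup E]
    [Module A E] [Module.Injective A E] : Function.Surjective (fun e : E => f • e) := fun e => by
  obtain ⟨h, hh⟩ := Module.Injective.extension_property (inj := ‹_›) A E A A
    (LinearMap.toSpanSingleton A A f) (fun a b hab => hf (by simpa [mul_comm] using hab))
    (LinearMap.toSpanSingleton A E e)
  refine ⟨h 1, ?_⟩
  have := LinearMap.congr_fun hh 1
  simp only [LinearMap.comp_apply, LinearMap.toSpanSingleton_apply, one_smul] at this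
  change f • h 1 = e
  rw [← this, ← map_smul, smul_eq_mul, mul_one]

/-- An injective embedding whose `f`-torsion stays short exact. -/
theorem exists_shift (hf : IsSMulRegular A f) {Z : Type u} [AddCommGroup Z] [Module A Z]
    (hZ : Function.Surjective (fun z : Z => f • z)) :
    ∃ (E : Type u) (_ : AddCommGroup E) (_ : Module A E) (_ : Module.Injective A E)
      (Z' : Type u) (_ : AddCommGroup Z') (_ : Module A Z') (ι : Z →ₗ[A] E) (π : E →ₗ[A] Z'),
      Function.Injective ι ∧ Function.Surjective π ∧ Function.Exact ι π ∧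
      Function.Surjective (fun z : Z' => f • z) ∧ Function.Injective (kerMap f ι) ∧
      Function.Surjective (kerMap f π) ∧ Function.Exact (kerMap f ι) (kerMap f π) := by
  obtain ⟨E, _, _, ι, hι, hE⟩ := H4Inj.exists_injective_embedding (R := A) Z
  let π := (LinearMap.range ι).mkQ
  have hex : Function.Exact ι π := LinearMap.exact_map_mkQ_range ι
  refine ⟨E, _, _, hE, _, _, _, ι, π, hι, Submodule.mkQ_surjective _, hex, fun y => ?_,
    fun z w h => Subtype.ext (hι (congrArg Subtype.val h)), ?_, fun e => ?_⟩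
  · obtain ⟨e, rfl⟩ := Submodule.mkQ_surjective _ y
    obtain ⟨e', rfl⟩ := smul_surjective_of_injective f hf E e
    exact ⟨π e', (map_smul π f e').symm⟩
  · rintro ⟨y, hy⟩
    obtain ⟨e, rfl⟩ := Submodule.mkQ_surjective _ y
    rw [mem_ker'_iff, ← map_smul] at hy
    obtain ⟨z, hz⟩ := (hex _).1 hy
    obtain ⟨w, rfl⟩ := hZ z
    refine ⟨⟨e - ι w, (mem_ker'_iff f).2 ?_⟩, Subtype.ext ?_⟩
    · rw [smul_sub, ← map_smul, hz, sub_self]
    · change π (e - ι w) = π e
      rw [map_sub, hex.apply_apply_eq_zero, sub_zero]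
  · refine ⟨fun he => ?_, fun ⟨z, hz⟩ => hz ▸ Subtype.ext (hex.apply_apply_eq_zero z.1)⟩
    obtain ⟨z, hz⟩ := (hex e.1).1 (congrArg Subtype.val he)
    refine ⟨⟨z, (mem_ker'_iff f).2 (hι ?_)⟩, Subtype.ext hz⟩
    rw [map_smul, hz, (mem_ker'_iff f).1 e.2, map_zero]

/-- Vanishing of `Ext` into a divisible module, computed over `A/(f)`. -/
theorem subsingleton_ext_ker_iff (hf : IsSMulRegular A f) : ∀ (i : ℕ) (Z : Type u)
    [AddCommGroup Z] [Module A Z],
    Function.Surjective (fun z : Z => f • z) →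
      (Subsingleton (Ext (ModuleCat.of A X) (ModuleCat.of A Z) (i + 1)) ↔
        Subsingleton (Ext (ModuleCat.of (A ⧸ Ideal.span {f}) X)
          (ModuleCat.of (A ⧸ Ideal.span {f}) (ker' f Z)) (i + 1))) := by
  intro i
  induction i with
  | zero =>
    intro Z _ _ hZ
    obtain ⟨E, _, _, hE, Z', _, _, ι, π, hι, hπ, hex, -, hι', hπ', hex'⟩ := exists_shift f hf hZ
    have := H4Matlis.injective_torsionBy (Ideal.span {f}) hE
    rw [zero_add, subsingleton_ext_one_iff _ hι hπ hex, subsingleton_ext_one_iff _ hι' hπ' hex']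
    constructor
    · intro h φ
      obtain ⟨ψ, hψ⟩ := h ((ker' f _).subtype ∘ₗ φ.restrictScalars A)
      exact ⟨toKer f X ψ, LinearMap.ext fun x => Subtype.ext (LinearMap.congr_fun hψ x)⟩
    · intro h φ
      obtain ⟨ψ, hψ⟩ := h (toKer f X φ)
      exact ⟨(ker' f E).subtype ∘ₗ ψ.restrictScalars A,
        LinearMap.ext fun x => congrArg Subtype.val (LinearMap.congr_fun hψ x)⟩
  | succ i ih =>
    intro Z _ _ hZ
    obtain ⟨E, _, _, hE, Z', _, _, ι, π, hι, hπ, hex, hZ', hι', hπ', hex'⟩ := exists_shift f hf hZ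
    have := H4Matlis.injective_torsionBy (Ideal.span {f}) hE
    rw [subsingleton_ext_succ_succ_iff _ hι hπ hex i,
      subsingleton_ext_succ_succ_iff _ hι' hπ' hex' i]
    exact ih Z' hZ'

end Groth.Agent.H4Goren
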